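import Groth.Agent.LimCohLib.LimOne
import Groth.Agent.Coherent.SchemeCoh
import Groth.Agent.Coherent.Existence.SysKernel
import Groth.Agent.S6160

/-!
# Cohomology of inverse limits of quasi-coherent modules on a scheme
-/

set_option autoImplicit false
set_option linter.unusedSectionVars false

universe u

open CategoryTheory CategoryTheory.Limits CategoryTheory.Abelian AlgebraicGeometry Opposite TopologicalSpace
open Groth.Agent.Coherent

namespace Groth.Agent.LimCohLib

variable {X : Scheme.{u}}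

instance preservesLimitsOfShape_toAb :
    PreservesLimitsOfShape ℕᵒᵖ (SheafOfModules.toSheaf.{u} X.ringCatSheaf) := by
  haveI : PreservesLimitsOfSize.{u, u} (SheafOfModules.toSheaf.{u} X.ringCatSheaf) :=
    ⟨fun {T} _ => S6160.preservesLimitsOfShape_toSheaf X.ringCatSheaf T⟩
  haveI : PreservesLimitsOfSize.{0, 0} (SheafOfModules.toSheaf.{u} X.ringCatSheaf) :=
    preservesLimitsOfSize_shrink.{0, u, 0, u} _
  infer_instance

variable (G : ℕᵒᵖ ⥤ X.Modules)

/-- The underlying abelian sheaves. -/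
noncomputable abbrev abSys : ℕᵒᵖ ⥤ CohTop.Ab X.toTopCat := G ⋙ SheafOfModules.toSheaf X.ringCatSheaf

/-- The underlying sheaf of the limit. -/
noncomputable def limAbIso : Coh.toAb (limit G) ≅ limit (abSys G) :=
  preservesLimitIso (SheafOfModules.toSheaf X.ringCatSheaf) G

theorem limAbIso_π (k : ℕ) : (limAbIso G).hom ≫ limit.π (abSys G) (op k) =
    (SheafOfModules.toSheaf X.ringCatSheaf).map (limit.π G (op k)) :=
  preservesLimitIso_hom_π (SheafOfModules.toSheaf X.ringCatSheaf) G (op k)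

variable (hq : ∀ n, Coh.IsQCoh (G.obj (op n))) (hepi : ∀ n, Epi (G.map (homOfLE (Nat.le_succ n)).op))

include hq

theorem hvan_affine : ∀ U ∈ X.affineOpens, ∀ (k i : ℕ), 0 < i →
    Subsingleton (CohTop.HU ((abSys G).obj (op k)) i U) := fun U hU k i hi => by
  obtain ⟨i, rfl⟩ := Nat.exists_eq_succ_of_ne_zero hi.ne'
  haveI := hq k
  exact subsingleton_H'_qcoh (G.obj (op k)) hU i

include hepi

theorem hsurj_affine : ∀ U ∈ X.affineOpens, ∀ k : ℕ,
    Function.Surjective (((abSys G).map (homOfLE (Nat.le_succ k)).op).hom.app (op U)).hom := fun U hU k => by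
  haveI := hq k
  haveI := hq (k + 1)
  haveI := hepi k
  exact Existence.app_surjective_of_epi (G.map (homOfLE (Nat.le_succ k)).op) hU

/-- The limit is acyclic on affine opens. -/
theorem subsingleton_HU_toAb_limit {U : X.Opens} (hU : IsAffineOpen U) (n : ℕ) :
    Subsingleton (Sheaf.H' (Coh.toAb (limit G)) (n + 1) U) := by
  have := subsingleton_HU_limit (abSys G) _ X.isBasis_affineOpens (hvan_affine G hq)
    (hsurj_affine G hq hepi) hU n
  exact @Equiv.subsingleton _ _
    (((Sheaf.cohomologyPresheafFunctor _ (n + 1)).mapIso (limAbIso G)).app (op U)).addCommGroupIsoToAddEquiv.toEquiv this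

/-- Compatible classes come from the limit. -/
theorem exists_HH_limit (p : ℕ) (ξ : ∀ k : ℕ, Coh.HH X (G.obj (op k)) p)
    (hξ : ∀ k, Formal2.HHsysMap G p k (ξ (k + 1)) = ξ k) :
    ∃ η : Coh.HH X (limit G) p,
      ∀ k, Sheaf.H.map ((SheafOfModules.toSheaf _).map (limit.π G (op k))) p η = ξ k := by
  obtain ⟨η, hη⟩ := exists_H_limit (abSys G) _ X.isBasis_affineOpens (hvan_affine G hq)
    (hsurj_affine G hq hepi) p ξ hξ
  refine ⟨Sheaf.H.map (limAbIso G).inv p η, fun k => ?_⟩
  rw [← Sheaf.H.map_comp_apply, ← limAbIso_π, Iso.inv_hom_id_assoc]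
  exact hη k

/-- The classes with vanishing components are the derived limit one degree below. -/
theorem exists_HH_limOne (p : ℕ) :
    ∃ α : Formal2.limOne (fun k => Coh.HH X (G.obj (op k)) p) (Formal2.HHsysMap G p) →+ Coh.HH X (limit G) (p + 1),
      Function.Injective α ∧ ∀ η, (∃ c, α c = η) ↔
        ∀ k, Sheaf.H.map ((SheafOfModules.toSheaf _).map (limit.π G (op k))) (p + 1) η = 0 := by
  obtain ⟨α, hα, hrange⟩ := exists_H_limOne (abSys G) _ X.isBasis_affineOpens (hvan_affine G hq)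
    (hsurj_affine G hq hepi) p
  refine ⟨(Sheaf.H.map (limAbIso G).inv (p + 1)).comp α,
    Function.Injective.comp (g := ⇑(Sheaf.H.map (limAbIso G).inv (p + 1)))
      (Function.LeftInverse.injective (g := ⇑(Sheaf.H.map (limAbIso G).hom (p + 1))) fun x => by
        rw [← Sheaf.H.map_comp_apply, Iso.inv_hom_id, Sheaf.H.map_id_apply]) hα, fun η => ⟨?_, fun hη => ?_⟩⟩
  · rintro ⟨c, rfl⟩ k
    rw [AddMonoidHom.comp_apply, ← Sheaf.H.map_comp_apply, ← limAbIso_π, Iso.inv_hom_id_assoc]
    exact (hrange _).1 ⟨c, rfl⟩ k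
  · obtain ⟨c, hc⟩ := (hrange (Sheaf.H.map (limAbIso G).hom (p + 1) η)).2 fun k => by
      refine (Sheaf.H.map_comp_apply _ _ _).symm.trans ?_
      rw [limAbIso_π]
      exact hη k
    refine ⟨c, ?_⟩
    refine (congrArg (Sheaf.H.map (limAbIso G).inv (p + 1)) hc).trans ?_
    rw [← Sheaf.H.map_comp_apply, Iso.hom_inv_id, Sheaf.H.map_id_apply]

end Groth.Agent.LimCohLib
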