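import Groth.Agent.LimCohLib.Abstract
import Groth.Agent.SiteCoh.Space
import Groth.Prelude.Def_CohTop

/-!
# Cohomology of inverse limits of sheaves on a space with a basis of acyclic opens
-/

set_option autoImplicit false
set_option linter.unusedSectionVars false

universe u

open CategoryTheory CategoryTheory.Limits CategoryTheory.Abelian Opposite TopologicalSpace

namespace Groth.Agent.LimCohLib

variable {X : TopCat.{u}}

/-- The free sheaves on the opens of a basis. -/
def freeTests (B : Set (Opens X)) : Set (CohTop.Ab X) :=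
  {Z | ∃ U ∈ B, Z = CohCx.freeSheaf (Opens.grothendieckTopology X) U}

theorem detects_freeTests {B : Set (Opens X)} (hB : Opens.IsBasis B) : Detects (freeTests B) := fun P Q g h => by
  have hs : ∀ U ∈ B, Function.Surjective (g.hom.app (op U)) := fun U hU =>
    (SiteCoh.surjective_sections_iff g U).2 (h _ ⟨U, hU, rfl⟩)
  have : Sheaf.IsLocallySurjective g := ⟨fun {V} s x hx => by
    obtain ⟨U, hU, hxU, hUV⟩ := Opens.isBasis_iff_nbhd.1 hB hx
    exact ⟨U, homOfLE hUV, hs U hU _, hxU⟩⟩
  exact Sheaf.epi_of_isLocallySurjective g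

theorem acy_freeTests {B : Set (Opens X)} (F : CohTop.Ab X)
    (h : ∀ U ∈ B, ∀ i : ℕ, 0 < i → Subsingleton (CohTop.HU F i U)) : Acy.{u} (freeTests B) F := by
  rintro _ ⟨U, hU, rfl⟩ n
  exact h U hU (n + 1) n.succ_pos

variable (F : ℕᵒᵖ ⥤ CohTop.Ab X) (B : Set (Opens X)) (hB : Opens.IsBasis B)
  (hvan : ∀ U ∈ B, ∀ (k i : ℕ), 0 < i → Subsingleton (CohTop.HU (F.obj (op k)) i U))
  (hsurj : ∀ U ∈ B, ∀ k : ℕ,
    Function.Surjective ((F.map (homOfLE (Nat.le_succ k)).op).hom.app (op U)).hom)

include hsurj in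
theorem lifts : ∀ Z ∈ freeTests B, ∀ (k : ℕ) (a : Z ⟶ term F k), ∃ b : Z ⟶ term F (k + 1),
    b ≫ F.map (homOfLE (Nat.le_succ k)).op = a := by
  rintro _ ⟨U, hU, rfl⟩ k
  exact (SiteCoh.surjective_sections_iff _ U).1 (hsurj U hU k)

include hB hvan hsurj

/-- Compatible classes come from the limit. -/
theorem exists_H_limit (i : ℕ) (ξ : ∀ k : ℕ, CohTop.H (F.obj (op k)) i)
    (hξ : ∀ k, Sheaf.H.map (F.map (homOfLE (Nat.le_succ k)).op) i (ξ (k + 1)) = ξ k) :
    ∃ η : CohTop.H (limit F) i, ∀ k, Sheaf.H.map (limit.π F (op k)) i η = ξ k :=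
  exists_of_compatible F (detects_freeTests hB) (fun k => acy_freeTests _ fun U hU => hvan U hU k)
    (lifts F B hsurj) _ i ξ hξ

/-- Components determine a class, given the vanishing of the derived limit one degree below. -/
theorem eq_zero_H_limit (j : ℕ)
    (hlim : ∀ a : ∀ k, CohTop.H (F.obj (op k)) j, ∃ b : ∀ k, CohTop.H (F.obj (op k)) j,
      ∀ k, b k - Sheaf.H.map (F.map (homOfLE (Nat.le_succ k)).op) j (b (k + 1)) = a k)
    (η : CohTop.H (limit F) (j + 1)) (h : ∀ k, Sheaf.H.map (limit.π F (op k)) (j + 1) η = 0) : η = 0 :=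
  eq_zero_of_components F (detects_freeTests hB) (fun k => acy_freeTests _ fun U hU => hvan U hU k)
    (lifts F B hsurj) _ j hlim η h

/-- With a Mittag-Leffler system one degree below, components determine a class. -/
theorem H_limit_ext (j : ℕ)
    (hML : ((F ⋙ Sheaf.functorH (Opens.grothendieckTopology X) j) ⋙ forget AddCommGrpCat).IsMittagLeffler)
    (η η' : CohTop.H (limit F) (j + 1))
    (h : ∀ k, Sheaf.H.map (limit.π F (op k)) (j + 1) η = Sheaf.H.map (limit.π F (op k)) (j + 1) η') : η = η' := by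
  refine sub_eq_zero.1 (eq_zero_H_limit F B hB hvan hsurj j (fun a => ?_) (η - η') fun k => ?_)
  · exact exists_sub_eq_of_isMittagLeffler (F ⋙ Sheaf.functorH (Opens.grothendieckTopology X) j) hML a
  · rw [map_sub, h k, sub_self]

/-- The limit is acyclic on the basis. -/
theorem subsingleton_HU_limit {U : Opens X} (hU : U ∈ B) (n : ℕ) :
    Subsingleton (CohTop.HU (limit F) (n + 1) U) :=
  acy_limit F (detects_freeTests hB) (fun k => acy_freeTests _ fun U hU => hvan U hU k)
    (lifts F B hsurj) _ ⟨U, hU, rfl⟩ n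

end Groth.Agent.LimCohLib
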