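import Mathlib

/-!
# Ext groups into countable products and inverse limits, with a class of acyclicity tests
-/

set_option autoImplicit false
set_option linter.unusedSectionVars false

universe w v u

open CategoryTheory CategoryTheory.Limits CategoryTheory.Abelian Opposite

namespace Groth.Agent.LimCohLib

variable {C : Type u} [Category.{v} C] [Abelian C] [HasExt.{w} C] [EnoughInjectives C]

/-- A class of test objects detects epimorphisms. -/
def Detects (T : Set C) : Prop :=
  ∀ ⦃A B : C⦄ (g : A ⟶ B), (∀ X ∈ T, ∀ a : X ⟶ B, ∃ b, b ≫ g = a) → Epi g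

/-- Objects without higher Ext from the test objects. -/
def Acy (T : Set C) (F : C) : Prop := ∀ X ∈ T, ∀ n : ℕ, Subsingleton (Ext.{w} X F (n + 1))

variable {T : Set C}

theorem acy_of_injective (I : C) [Injective I] : Acy.{w} T I := fun _ _ n =>
  subsingleton_of_forall_eq 0 fun x => Ext.eq_zero_of_injective x

/-- A morphism out of a test object lifts through an epimorphism with acyclic kernel. -/
theorem exists_lift {S : ShortComplex C} (hS : S.ShortExact) {X : C} (h : Subsingleton (Ext.{w} X S.X₁ 1))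
    (a : X ⟶ S.X₃) : ∃ b : X ⟶ S.X₂, b ≫ S.g = a := by
  obtain ⟨x, hx⟩ := Ext.covariant_sequence_exact₃ X hS (Ext.mk₀ a) (n₁ := 1) (zero_add 1) (Subsingleton.elim _ _)
  obtain ⟨b, rfl⟩ := (Ext.mk₀_bijective X S.X₂).2 x
  exact ⟨b, (Ext.mk₀_bijective X S.X₃).1 (by rw [← hx, Ext.mk₀_comp_mk₀])⟩

/-- The quotient of an injective object by an acyclic one is acyclic. -/
theorem acy_X₃ {S : ShortComplex C} (hS : S.ShortExact) [Injective S.X₂] (h : Acy.{w} T S.X₁) :
    Acy.{w} T S.X₃ := fun X hX n => subsingleton_of_forall_eq 0 fun x => by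
  have := h X hX (n + 1)
  obtain ⟨y, rfl⟩ := Ext.covariant_sequence_exact₃ X hS x (n₁ := n + 1 + 1) rfl (Subsingleton.elim _ _)
  rw [Ext.eq_zero_of_injective y, Ext.zero_comp]

theorem mk₀_sub {X Y : C} (f g : X ⟶ Y) : Ext.mk₀.{w} (f - g) = Ext.mk₀ f - Ext.mk₀ g :=
  map_sub Ext.addEquiv₀.symm f g

theorem comp_mk₀_sub {X Y Z : C} {n : ℕ} (x : Ext.{w} X Y n) (f g : Y ⟶ Z) :
    x.comp (Ext.mk₀ (f - g)) (add_zero n) =
      x.comp (Ext.mk₀ f) (add_zero n) - x.comp (Ext.mk₀ g) (add_zero n) :=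
  by rw [mk₀_sub, sub_eq_add_neg, Ext.comp_add, Ext.comp_neg, ← sub_eq_add_neg]

section Prod

variable {ι : Type*} [HasProductsOfShape ι C]

/-- A product of short exact sequences, with acyclic kernels. -/
noncomputable abbrev prodSeq (S : ι → ShortComplex C) : ShortComplex C :=
  ShortComplex.mk (Limits.Pi.map fun i => (S i).f) (Limits.Pi.map fun i => (S i).g)
    (Pi.hom_ext _ _ fun i => by simp)

theorem prodSeq_shortExact (hT : Detects T) (S : ι → ShortComplex C) (hS : ∀ i, (S i).ShortExact)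
    (hacy : ∀ i, Acy.{w} T (S i).X₁) : (prodSeq S).ShortExact := by
  haveI : ∀ i, Mono (S i).f := fun i => (hS i).mono_f
  have hmono : Mono (prodSeq S).f := ⟨fun {W} a b hab => Pi.hom_ext _ _ fun i => by
    rw [← cancel_mono (S i).f]
    simpa using congrArg (· ≫ Pi.π _ i) hab⟩
  refine { exact := ShortComplex.exact_of_f_is_kernel _ ?_, mono_f := hmono, epi_g := ?_ }
  · haveI := hmono
    refine KernelFork.IsLimit.ofι' _ _ fun {W} k hk => ⟨Pi.lift fun i => (hS i).fIsKernel.lift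
        (KernelFork.ofι (k ≫ Pi.π _ i) (by
          have := congrArg (· ≫ Pi.π _ i) hk
          simpa using this)), Pi.hom_ext _ _ fun i => ?_⟩
    rw [Category.assoc, Pi.map_π, Pi.lift_π_assoc]
    exact (hS i).fIsKernel.fac _ WalkingParallelPair.zero
  · refine hT _ fun X hX a => ?_
    choose b hb using fun i => exists_lift (hS i) (hacy i X hX 0) (a ≫ Pi.π _ i)
    exact ⟨Pi.lift b, Pi.hom_ext _ _ fun i => by simp [hb]⟩

/-- The map to the product of the Ext groups. -/
noncomputable def prodCmp (Z : C) (F : ι → C) (n : ℕ) (x : Ext.{w} Z (∏ᶜ F) n) (i : ι) : Ext.{w} Z (F i) n :=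
  x.comp (Ext.mk₀ (Pi.π F i)) (add_zero n)

theorem prodCmp_comp (Z : C) {F G : ι → C} (φ : ∀ i, F i ⟶ G i) (n : ℕ) (x : Ext.{w} Z (∏ᶜ F) n) (i : ι) :
    prodCmp Z G n (x.comp (Ext.mk₀ (Limits.Pi.map φ)) (add_zero n)) i =
      (prodCmp Z F n x i).comp (Ext.mk₀ (φ i)) (add_zero n) := by
  simp [prodCmp, Ext.comp_assoc_of_third_deg_zero, Ext.mk₀_comp_mk₀]

/-- The projection of a product of short exact sequences. -/
noncomputable abbrev prodSeqπ (S : ι → ShortComplex C) (i : ι) : prodSeq S ⟶ S i where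
  τ₁ := Pi.π _ i
  τ₂ := Pi.π _ i
  τ₃ := Pi.π _ i
  comm₁₂ := by simp
  comm₂₃ := by simp

theorem prodCmp_extClass (S : ι → ShortComplex C) (hP : (prodSeq S).ShortExact) (hS : ∀ i, (S i).ShortExact)
    (Z : C) (n : ℕ) (x : Ext.{w} Z (prodSeq S).X₃ n) (i : ι) :
    prodCmp Z _ (n + 1) (x.comp hP.extClass rfl) i = (prodCmp Z _ n x i).comp (hS i).extClass rfl := by
  show (x.comp hP.extClass rfl).comp (Ext.mk₀ (prodSeqπ S i).τ₁) (add_zero _) =
    (x.comp (Ext.mk₀ (prodSeqπ S i).τ₃) (add_zero n)).comp (hS i).extClass rfl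
  rw [Ext.comp_assoc_of_third_deg_zero, ShortComplex.ShortExact.extClass_naturality hP (hS i) (prodSeqπ S i),
    Ext.comp_assoc_of_second_deg_zero]

/-- Ext commutes with products of acyclic objects. -/
theorem bijective_prodCmp (hT : Detects T) (Z : C) :
    ∀ (n : ℕ) (F : ι → C), (∀ i, Acy.{w} T (F i)) → Function.Bijective (prodCmp.{w} Z F n)
  | 0, F, _ => by
    refine ⟨fun x y h => ?_, fun x => ?_⟩
    · obtain ⟨a, rfl⟩ := (Ext.mk₀_bijective Z _).2 x
      obtain ⟨b, rfl⟩ := (Ext.mk₀_bijective Z _).2 y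
      refine congrArg _ (Pi.hom_ext _ _ fun i => (Ext.mk₀_bijective.{w} Z _).1 ?_)
      simpa [prodCmp, Ext.mk₀_comp_mk₀] using congrFun h i
    · choose a ha using fun i => (Ext.mk₀_bijective Z (F i)).2 (x i)
      exact ⟨Ext.mk₀ (Pi.lift a), funext fun i => by simp [prodCmp, Ext.mk₀_comp_mk₀, ha]⟩
  | n + 1, F, hF => by
    let S : ι → ShortComplex C := fun i =>
      ShortComplex.mk (Injective.ι (F i)) (cokernel.π (Injective.ι (F i))) (cokernel.condition _)
    have hS : ∀ i, (S i).ShortExact := fun i =>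
      { exact := ShortComplex.exact_cokernel _
        mono_f := inferInstanceAs (Mono (Injective.ι (F i)))
        epi_g := inferInstanceAs (Epi (cokernel.π (Injective.ι (F i)))) }
    haveI : ∀ i, Injective (S i).X₂ := fun i => inferInstanceAs (Injective (Injective.under (F i)))
    have hP := prodSeq_shortExact hT S hS hF
    haveI : Injective (prodSeq S).X₂ := inferInstanceAs (Injective (∏ᶜ fun i => (S i).X₂))
    have ihQ := bijective_prodCmp hT Z n (fun i => (S i).X₃) fun i => acy_X₃ (hS i) (hF i)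
    have ihI := bijective_prodCmp hT Z n (fun i => (S i).X₂) fun i => acy_of_injective _
    refine ⟨fun x y h => sub_eq_zero.1 ?_, fun x => ?_⟩
    · obtain ⟨a, ha⟩ := Ext.covariant_sequence_exact₁ Z hP (x - y) (Ext.eq_zero_of_injective _) (n₀ := n) rfl
      have hz : ∀ i, (prodCmp Z _ n a i).comp (hS i).extClass rfl = 0 := fun i => by
        rw [← prodCmp_extClass S hP hS Z n a i, ha]
        show (x - y).comp (Ext.mk₀ (Pi.π F i)) _ = 0
        rw [sub_eq_add_neg, Ext.add_comp, Ext.neg_comp, ← sub_eq_add_neg, sub_eq_zero]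
        exact congrFun h i
      choose b hb using fun i => Ext.covariant_sequence_exact₃ Z (hS i) _ (n₁ := n + 1) rfl (hz i)
      obtain ⟨c, hc⟩ := ihI.2 b
      have : a = c.comp (Ext.mk₀ (prodSeq S).g) (add_zero n) := ihQ.1 (funext fun i => by
        rw [prodCmp_comp, hc]
        exact (hb i).symm)
      rw [← ha, this, Ext.comp_assoc_of_second_deg_zero, hP.comp_extClass, Ext.comp_zero]
    · choose a ha using fun i => Ext.covariant_sequence_exact₁ Z (hS i) (x i) (Ext.eq_zero_of_injective _) (n₀ := n) rfl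
      obtain ⟨b, hb⟩ := ihQ.2 a
      exact ⟨b.comp hP.extClass rfl, funext fun i =>
        (prodCmp_extClass S hP hS Z n b i).trans (by rw [hb]; exact ha i)⟩

/-- A product of acyclic objects is acyclic. -/
theorem acy_prod (hT : Detects T) (F : ι → C) (hF : ∀ i, Acy.{w} T (F i)) : Acy.{w} T (∏ᶜ F) := fun X hX n => by
  have : ∀ i, Subsingleton (Ext.{w} X (F i) (n + 1)) := fun i => hF i X hX n
  exact (bijective_prodCmp hT X (n + 1) F hF).1.subsingleton

end Prod

section ML

/-- Composites of transition maps of a Mittag-Leffler system of abelian groups hit every shifted family. -/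
theorem exists_sub_eq_of_isMittagLeffler (A : ℕᵒᵖ ⥤ AddCommGrpCat.{w})
    (hA : (A ⋙ forget AddCommGrpCat.{w}).IsMittagLeffler) (a : ∀ k, A.obj (op k)) :
    ∃ b : ∀ k, A.obj (op k), ∀ k, b k - A.map (homOfLE (Nat.le_succ k)).op (b (k + 1)) = a k := by
  classical
  let tm : ∀ {i j : ℕ}, i ≤ j → A.obj (op j) →+ A.obj (op i) := fun h => (A.map (homOfLE h).op).hom
  have htm : ∀ {i j k : ℕ} (h : i ≤ j) (h' : j ≤ k) (x : A.obj (op k)), tm h (tm h' x) = tm (h.trans h') x :=
    fun h h' x => (ConcreteCategory.congr_hom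
      ((A.map_comp (homOfLE h').op (homOfLE h).op).symm.trans (congrArg A.map (Subsingleton.elim _ _))) x)
  have hml : ∀ i, ∃ j, ∃ hij : i ≤ j, ∀ k, ∀ hjk : j ≤ k, ∀ x : A.obj (op j),
      ∃ y : A.obj (op k), tm (hij.trans hjk) y = tm hij x := fun i => by
    obtain ⟨j, f, hf⟩ := hA (op i)
    refine ⟨j.unop, leOfHom f.unop, fun k hk x => ?_⟩
    exact hf (k := op k) (homOfLE ((leOfHom f.unop).trans hk)).op ⟨x, rfl⟩
  choose N₀ hN₀ hN using hml
  let N : ℕ → ℕ := fun k => (Finset.range (k + 1)).sup N₀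
  have hN₀N : ∀ k, N₀ k ≤ N k := fun k => Finset.le_sup (Finset.self_mem_range_succ k)
  have hkN : ∀ k, k ≤ N k := fun k => (hN₀ k).trans (hN₀N k)
  have hmono : ∀ k, N k ≤ N (k + 1) := fun k => Finset.sup_mono (Finset.range_mono (Nat.le_succ _))
  let E : ∀ k, A.obj (op k) → Prop := fun k x => ∀ m, ∀ h : k ≤ m, ∃ y, tm h y = x
  have hE : ∀ k m (h : k ≤ m), N k ≤ m → ∀ x, E k (tm h x) := fun k m h hm x l hl => by
    rcases le_total m l with hml | hlm
    · obtain ⟨y, hy⟩ := hN k l (((hN₀N k).trans hm).trans hml) (tm ((hN₀N k).trans hm) x)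
      exact ⟨y, by rw [hy, htm]⟩
    · exact ⟨tm hlm x, htm hl hlm x⟩
  have hsurj : ∀ k x, E k x → ∃ y, E (k + 1) y ∧ tm (Nat.le_succ k) y = x := fun k x hx => by
    obtain ⟨z, hz⟩ := hx (N (k + 1)) ((Nat.le_succ k).trans (hkN _))
    exact ⟨tm (hkN (k + 1)) z, hE _ _ _ le_rfl z, by rw [htm, hz]⟩
  let T : ∀ k m, A.obj (op k) := fun k m => if h : k ≤ m then tm h (a m) else 0
  have hT : ∀ k m, k + 1 ≤ m → tm (Nat.le_succ k) (T (k + 1) m) = T k m := fun k m h => by
    simp only [T, dif_pos h, dif_pos ((Nat.le_succ k).trans h), htm]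
  let c : ∀ k, A.obj (op k) := fun k => ∑ m ∈ Finset.Ico k (N k + 1), T k m
  let a' : ∀ k, A.obj (op k) := fun k => ∑ m ∈ Finset.Ico (N k + 1) (N (k + 1) + 1), T k m
  have ha' : ∀ k, E k (a' k) := fun k m hm => by
    have hl : ∀ l : {l // l ∈ Finset.Ico (N k + 1) (N (k + 1) + 1)}, ∃ y, tm hm y = T k l.1 := fun l => by
      have hl : N k ≤ l.1 := by have := (Finset.mem_Ico.1 l.2).1; omega
      simp only [T, dif_pos ((hkN k).trans hl)]
      exact hE k l.1 ((hkN k).trans hl) hl (a l.1) m hm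
    choose y hy using hl
    refine ⟨∑ l, y l, ?_⟩
    rw [map_sum, ← Finset.attach_eq_univ]
    exact (Finset.sum_congr rfl fun l _ => hy l).trans (Finset.sum_attach _ (T k))
  have hc : ∀ k, c k - tm (Nat.le_succ k) (c (k + 1)) = a k - a' k := fun k => by
    have h1 : tm (Nat.le_succ k) (c (k + 1)) = ∑ m ∈ Finset.Ico (k + 1) (N (k + 1) + 1), T k m := by
      rw [map_sum]
      exact Finset.sum_congr rfl fun m hm => hT k m (Finset.mem_Ico.1 hm).1
    have h2 : c k = a k + ∑ m ∈ Finset.Ico (k + 1) (N k + 1), T k m := by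
      show ∑ m ∈ Finset.Ico k (N k + 1), T k m = _
      rw [Finset.sum_eq_sum_Ico_succ_bot (by have := hkN k; omega)]
      congr 1
      simp only [T, dif_pos le_rfl]
      exact ConcreteCategory.congr_hom (A.map_id (op k)) (a k)
    rw [h1, h2, ← Finset.sum_Ico_consecutive (T k) (m := k + 1) (n := N k + 1) (k := N (k + 1) + 1)
      (by have := hkN k; omega) (by have := hmono k; omega)]
    show a k + _ - (_ + a' k) = a k - a' k
    abel
  let d : ∀ k, {x : A.obj (op k) // ∀ y, E k y → ∃ z, E (k + 1) z ∧ tm (Nat.le_succ k) z = y} :=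
    fun k => ⟨0, fun y => hsurj k y⟩
  have hEsub : ∀ k x y, E k x → E k y → E k (x - y) := fun k x y hx hy m hm => by
    obtain ⟨p, rfl⟩ := hx m hm
    obtain ⟨q, rfl⟩ := hy m hm
    exact ⟨p - q, map_sub _ _ _⟩
  have hE0 : E 0 0 := fun m hm => ⟨0, map_zero _⟩
  let b : ∀ k, {x : A.obj (op k) // E k x} := fun k => Nat.rec (motive := fun k => {x : A.obj (op k) // E k x})
    ⟨0, hE0⟩ (fun k x => ⟨(hsurj k _ (hEsub k _ _ x.2 (ha' k))).choose,
      (hsurj k _ (hEsub k _ _ x.2 (ha' k))).choose_spec.1⟩) k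
  refine ⟨fun k => c k + (b k).1, fun k => ?_⟩
  have hb : tm (Nat.le_succ k) (b (k + 1)).1 = (b k).1 - a' k :=
    (hsurj k _ (hEsub k _ _ (b k).2 (ha' k))).choose_spec.2
  show c k + (b k).1 - tm (Nat.le_succ k) (c (k + 1) + (b (k + 1)).1) = a k
  rw [map_add, hb, ← sub_eq_zero,
    show c k + (b k).1 - (tm (Nat.le_succ k) (c (k + 1)) + ((b k).1 - a' k)) - a k =
      (c k - tm (Nat.le_succ k) (c (k + 1))) - (a k - a' k) by abel, hc, sub_self]

end ML

section Limit

variable [HasProductsOfShape ℕ C] [HasLimitsOfShape ℕᵒᵖ C] (F : ℕᵒᵖ ⥤ C)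

/-- The terms of an inverse sequence. -/
abbrev term (k : ℕ) : C := F.obj (op k)

/-- The difference map on the product of the terms. -/
noncomputable def shiftDiff : ∏ᶜ term F ⟶ ∏ᶜ term F :=
  Pi.lift fun k => Pi.π _ k - Pi.π _ (k + 1) ≫ F.map (homOfLE (Nat.le_succ k)).op

theorem shiftDiff_π (k : ℕ) :
    shiftDiff F ≫ Pi.π _ k = Pi.π (term F) k - Pi.π _ (k + 1) ≫ F.map (homOfLE (Nat.le_succ k)).op :=
  Pi.lift_π _ _

/-- The inclusion of the limit in the product. -/
noncomputable def limIncl : limit F ⟶ ∏ᶜ term F := Pi.lift fun k => limit.π F (op k)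

theorem limIncl_π (k : ℕ) : limIncl F ≫ Pi.π _ k = limit.π F (op k) := Pi.lift_π _ _

theorem limIncl_shiftDiff : limIncl F ≫ shiftDiff F = 0 := Pi.hom_ext _ _ fun k => by
  rw [zero_comp, Category.assoc, shiftDiff_π, Preadditive.comp_sub, ← Category.assoc, limIncl_π, limIncl_π,
    limit.w, sub_self]

/-- The defining sequence of a limit of an inverse sequence. -/
noncomputable abbrev limSeq : ShortComplex C := ShortComplex.mk _ _ (limIncl_shiftDiff F)

theorem limSeq_shortExact (hT : Detects T)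
    (hsurj : ∀ X ∈ T, ∀ (k : ℕ) (a : X ⟶ term F k), ∃ b : X ⟶ term F (k + 1),
      b ≫ F.map (homOfLE (Nat.le_succ k)).op = a) : (limSeq F).ShortExact := by
  have hmono : Mono (limIncl F) := ⟨fun {W} a b hab => limit.hom_ext fun j => by
    obtain ⟨k⟩ := j
    simpa [limIncl_π] using congrArg (· ≫ Pi.π _ k) hab⟩
  refine { exact := ShortComplex.exact_of_f_is_kernel _ ?_, mono_f := hmono, epi_g := ?_ }
  · refine KernelFork.IsLimit.ofι' _ _ fun {W} k hk => ?_
    let cone : Cone F :=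
      { pt := W
        π := NatTrans.ofOpSequence (F := (Functor.const ℕᵒᵖ).obj W) (G := F) (fun n => k ≫ Pi.π _ n) fun n => by
          have := congrArg (· ≫ Pi.π _ n) hk
          simp only [zero_comp, Category.assoc, shiftDiff_π, Preadditive.comp_sub, sub_eq_zero] at this
          simpa using this }
    exact ⟨limit.lift F cone, Pi.hom_ext _ _ fun n => by
      rw [Category.assoc, limIncl_π, limit.lift_π]
      rfl⟩
  · refine hT _ fun X hX a => ?_
    choose nxt hnxt using fun k (c : X ⟶ term F k) => hsurj X hX k (c - a ≫ Pi.π _ k)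
    let b : ∀ k, X ⟶ term F k := fun k => Nat.rec (motive := fun k => X ⟶ term F k) 0 nxt k
    refine ⟨Pi.lift b, Pi.hom_ext _ _ fun k => ?_⟩
    rw [Category.assoc, shiftDiff_π, Preadditive.comp_sub, Pi.lift_π, Pi.lift_π_assoc]
    show b k - nxt k (b k) ≫ _ = a ≫ _
    rw [hnxt]
    abel

theorem prodCmp_shiftDiff (Z : C) (n : ℕ) (b : Ext.{w} Z (∏ᶜ term F) n) (k : ℕ) :
    prodCmp Z _ n (b.comp (Ext.mk₀ (shiftDiff F)) (add_zero n)) k =
      prodCmp Z _ n b k - (prodCmp Z _ n b (k + 1)).comp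
        (Ext.mk₀ (F.map (homOfLE (Nat.le_succ k)).op)) (add_zero n) := by
  simp only [prodCmp, Ext.comp_assoc_of_third_deg_zero, Ext.mk₀_comp_mk₀, shiftDiff_π, comp_mk₀_sub]

variable (hT : Detects T) (hacy : ∀ k, Acy.{w} T (term F k))
  (hsurj : ∀ X ∈ T, ∀ (k : ℕ) (a : X ⟶ term F k), ∃ b : X ⟶ term F (k + 1),
    b ≫ F.map (homOfLE (Nat.le_succ k)).op = a)

include hT hacy hsurj

/-- Compatible classes come from the limit. -/
theorem exists_of_compatible (Z : C) (i : ℕ) (ξ : ∀ k, Ext.{w} Z (term F k) i)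
    (hξ : ∀ k, (ξ (k + 1)).comp (Ext.mk₀ (F.map (homOfLE (Nat.le_succ k)).op)) (add_zero i) = ξ k) :
    ∃ η : Ext.{w} Z (limit F) i, ∀ k, η.comp (Ext.mk₀ (limit.π F (op k))) (add_zero i) = ξ k := by
  have hbij := bijective_prodCmp hT Z i (term F) hacy
  obtain ⟨p, hp⟩ := hbij.2 ξ
  have h0 : p.comp (Ext.mk₀ (shiftDiff F)) (add_zero i) = 0 := hbij.1 (funext fun k => by
    rw [prodCmp_shiftDiff, congrFun hp k, congrFun hp (k + 1), hξ, sub_self]
    simp [prodCmp])
  obtain ⟨η, hη⟩ := Ext.covariant_sequence_exact₂ Z (limSeq_shortExact F hT hsurj) p h0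
  refine ⟨η, fun k => ?_⟩
  rw [← congrFun hp k, prodCmp, ← hη, Ext.comp_assoc_of_third_deg_zero, Ext.mk₀_comp_mk₀, limIncl_π]

/-- Classes with vanishing components vanish, if the previous system is Mittag-Leffler. -/
theorem eq_zero_of_components (Z : C) (j : ℕ)
    (hlim : ∀ a : ∀ k, Ext.{w} Z (term F k) j, ∃ b : ∀ k, Ext.{w} Z (term F k) j,
      ∀ k, b k - (b (k + 1)).comp (Ext.mk₀ (F.map (homOfLE (Nat.le_succ k)).op)) (add_zero j) = a k)
    (η : Ext.{w} Z (limit F) (j + 1))
    (h : ∀ k, η.comp (Ext.mk₀ (limit.π F (op k))) (add_zero _) = 0) : η = 0 := by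
  have hS := limSeq_shortExact F hT hsurj
  have h0 : η.comp (Ext.mk₀ (limSeq F).f) (add_zero (j + 1)) = 0 :=
    (bijective_prodCmp hT Z (j + 1) (term F) hacy).1 (funext fun k => by
      rw [prodCmp, Ext.comp_assoc_of_third_deg_zero, Ext.mk₀_comp_mk₀]
      refine (congrArg (fun g => η.comp (Ext.mk₀ g) (add_zero _)) (limIncl_π F k)).trans ?_
      rw [h k]
      simp [prodCmp])
  obtain ⟨a, rfl⟩ := Ext.covariant_sequence_exact₁ Z hS η h0 (n₀ := j) rfl
  obtain ⟨b, hb⟩ := hlim (prodCmp Z _ j a)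
  obtain ⟨c, hc⟩ := (bijective_prodCmp hT Z j (term F) hacy).2 b
  have : a = c.comp (Ext.mk₀ (limSeq F).g) (add_zero j) := (bijective_prodCmp hT Z j (term F) hacy).1
    (funext fun k => by rw [prodCmp_shiftDiff, hc, hb])
  rw [this, Ext.comp_assoc_of_second_deg_zero, hS.comp_extClass, Ext.comp_zero]

/-- The limit of a sequence of acyclic objects with surjective transitions is acyclic. -/
theorem acy_limit : Acy.{w} T (limit F) := fun X hX n => subsingleton_of_forall_eq 0 fun η => by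
  refine eq_zero_of_components F hT hacy hsurj X n ?_ η fun k => ?_
  · cases n with
    | zero =>
      intro a
      choose a₀ ha₀ using fun k => (Ext.mk₀_bijective X (term F k)).2 (a k)
      choose nxt hnxt using fun k (c : X ⟶ term F k) => hsurj X hX k (c - a₀ k)
      let b : ∀ k, X ⟶ term F k := fun k => Nat.rec (motive := fun k => X ⟶ term F k) 0 nxt k
      refine ⟨fun k => Ext.mk₀ (b k), fun k => ?_⟩
      rw [Ext.mk₀_comp_mk₀, ← mk₀_sub, ← ha₀ k]
      refine congrArg _ ?_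
      show b k - nxt k (b k) ≫ _ = a₀ k
      rw [hnxt]
      abel
    | succ m =>
      intro a
      exact ⟨a, fun k => by
        have := hacy k X hX m
        exact Subsingleton.elim _ _⟩
  · have := hacy k X hX n
    exact Subsingleton.elim _ _

end Limit

end Groth.Agent.LimCohLib
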