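import Groth.Agent.LimCohLib.Sheaf
import Groth.Prelude.Def_Formal2

/-!
# The derived limit part of the cohomology of an inverse limit
-/

set_option autoImplicit false
set_option linter.unusedSectionVars false

universe w v u

open CategoryTheory CategoryTheory.Limits CategoryTheory.Abelian Opposite

namespace Groth.Agent.LimCohLib

section General

variable {C : Type u} [Category.{v} C] [Abelian C] [HasExt.{w} C] [EnoughInjectives C]
  [HasProductsOfShape ℕ C] [HasLimitsOfShape ℕᵒᵖ C] {T : Set C} (F : ℕᵒᵖ ⥤ C) (hT : Detects T)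
  (hacy : ∀ k, Acy.{w} T (term F k))
  (hsurj : ∀ X ∈ T, ∀ (k : ℕ) (a : X ⟶ term F k), ∃ b : X ⟶ term F (k + 1),
    b ≫ F.map (homOfLE (Nat.le_succ k)).op = a)

include hT hacy hsurj

/-- The exact sequence with the derived limit of the Ext groups one degree below. -/
theorem exists_limOne_hom (Z : C) (j : ℕ) :
    ∃ α : Formal2.limOne (fun k => Ext.{w} Z (term F k) j)
        (fun k => (Ext.mk₀ (F.map (homOfLE (Nat.le_succ k)).op)).postcomp Z (add_zero j)) →+
        Ext.{w} Z (limit F) (j + 1),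
      Function.Injective α ∧
        ∀ η, (∃ c, α c = η) ↔ ∀ k, η.comp (Ext.mk₀ (limit.π F (op k))) (add_zero (j + 1)) = 0 := by
  have hS := limSeq_shortExact F hT hsurj
  have hbij := fun n => bijective_prodCmp hT Z n (term F) hacy
  obtain ⟨e, he⟩ : ∃ e : Ext.{w} Z (∏ᶜ term F) j ≃+ (∀ k, Ext.{w} Z (term F k) j),
      ∀ x k, e x k = prodCmp Z (term F) j x k :=
    ⟨AddEquiv.ofBijective
      (AddMonoidHom.mk' (prodCmp Z (term F) j) fun x y => funext fun k => by simp [prodCmp]) (hbij j),
      fun _ _ => rfl⟩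
  let δ : (∀ k, Ext.{w} Z (term F k) j) →+ Ext.{w} Z (limit F) (j + 1) :=
    (hS.extClass.postcomp Z rfl).comp e.symm.toAddMonoidHom
  have hker : δ.ker = (Formal2.towerDiff (fun k => Ext.{w} Z (term F k) j)
      (fun k => (Ext.mk₀ (F.map (homOfLE (Nat.le_succ k)).op)).postcomp Z (add_zero j))).range := by
    ext a
    refine ⟨fun ha => ?_, ?_⟩
    · obtain ⟨c, hc⟩ := Ext.covariant_sequence_exact₃ Z hS (e.symm a) (n₁ := j + 1) rfl ha
      refine ⟨e c, funext fun k => ?_⟩
      have h1 := prodCmp_shiftDiff F Z j c k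
      rw [← he c k, ← he c (k + 1)] at h1
      refine h1.symm.trans ?_
      exact ((congrArg (fun x => prodCmp Z _ j x k) hc).trans (he _ k).symm).trans
        (congrFun (e.apply_symm_apply a) k)
    · rintro ⟨b, rfl⟩
      obtain ⟨c, rfl⟩ := e.surjective b
      have : e.symm (Formal2.towerDiff _ (fun k => (Ext.mk₀ (F.map (homOfLE (Nat.le_succ k)).op)).postcomp Z
          (add_zero j)) (e c)) = c.comp (Ext.mk₀ (limSeq F).g) (add_zero j) :=
        e.symm_apply_eq.2 (funext fun k => by
          have h1 := prodCmp_shiftDiff F Z j c k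
          rw [← he c k, ← he c (k + 1), ← he] at h1
          exact h1.symm)
      show (e.symm _).comp hS.extClass rfl = 0
      rw [this, Ext.comp_assoc_of_second_deg_zero, hS.comp_extClass, Ext.comp_zero]
  refine ⟨QuotientAddGroup.lift _ δ hker.ge, ?_, fun η => ⟨?_, fun hη => ?_⟩⟩
  · rw [injective_iff_map_eq_zero]
    intro x hx
    obtain ⟨a, rfl⟩ := QuotientAddGroup.mk_surjective x
    exact (QuotientAddGroup.eq_zero_iff a).2 (hker.le hx)
  · rintro ⟨x, rfl⟩ k
    obtain ⟨a, rfl⟩ := QuotientAddGroup.mk_surjective x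
    show ((e.symm a).comp hS.extClass rfl).comp _ _ = 0
    rw [Ext.comp_assoc_of_third_deg_zero, ← limIncl_π, ← Ext.mk₀_comp_mk₀,
      hS.extClass_comp_assoc (h := rfl), Ext.comp_zero]
  · have h0 : η.comp (Ext.mk₀ (limSeq F).f) (add_zero (j + 1)) = 0 :=
      (hbij (j + 1)).1 (funext fun k => by
        rw [prodCmp, Ext.comp_assoc_of_third_deg_zero, Ext.mk₀_comp_mk₀]
        refine (congrArg (fun g => η.comp (Ext.mk₀ g) (add_zero _)) (limIncl_π F k)).trans ?_
        rw [hη k]
        simp [prodCmp])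
    obtain ⟨a, ha⟩ := Ext.covariant_sequence_exact₁ Z hS η h0 (n₀ := j) rfl
    refine ⟨QuotientAddGroup.mk (e a), ?_⟩
    show (e.symm (e a)).comp hS.extClass rfl = η
    rw [e.symm_apply_apply, ha]

end General

open TopologicalSpace in
/-- The derived limit part of the cohomology of a limit of sheaves. -/
theorem exists_H_limOne {Y : TopCat.{u}} (F : ℕᵒᵖ ⥤ CohTop.Ab Y) (B : Set (Opens Y)) (hB : Opens.IsBasis B)
    (hvan : ∀ U ∈ B, ∀ (k i : ℕ), 0 < i → Subsingleton (CohTop.HU (F.obj (op k)) i U))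
    (hsurj : ∀ U ∈ B, ∀ k : ℕ,
      Function.Surjective ((F.map (homOfLE (Nat.le_succ k)).op).hom.app (op U)).hom) (p : ℕ) :
    ∃ α : Formal2.limOne (fun k => CohTop.H (F.obj (op k)) p)
        (fun k => Sheaf.H.map (F.map (homOfLE (Nat.le_succ k)).op) p) →+ CohTop.H (limit F) (p + 1),
      Function.Injective α ∧
        ∀ η, (∃ c, α c = η) ↔ ∀ k, Sheaf.H.map (limit.π F (op k)) (p + 1) η = 0 :=
  exists_limOne_hom F (detects_freeTests hB) (fun k => acy_freeTests _ fun U hU => hvan U hU k)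
    (lifts F B hsurj) _ p

end Groth.Agent.LimCohLib
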